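import Cfsg.Agent.H616.TI.Defs
import Cfsg.Agent.Schreier.Sz
import Cfsg.Agent.Lib.FrattiniPGroup

/-!
# S4821, row SZ: the Suzuki groups (helper188)
-/

set_option autoImplicit false

namespace Cfsg.Agent.H188.TI.Sz

open Subgroup Cfsg Cfsg.Agent.H616.TI Cfsg.Agent.LieRecognition.SzMatrix

universe u

variable {F : Type*} [Field F] {θ : F →+* F} {e : ℕ}

theorem d_conj (H : Good F θ e) (k : Fˣ) (a b : F) :
    H.d k * H.u a b * (H.d k)⁻¹ = H.u (a * k ^ 2 * (θ k)⁻¹) (b * θ k) := by
  rw [H.d_mul_u, mul_inv_cancel_right]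

/-- `k ↦ θ k` is injective on units, hence `a ↦ a θ a` is onto. -/
theorem exists_mul_theta [Finite F] (H : Good F θ e) (b : F) : ∃ a : F, a * θ a = b := by
  have hinj : Function.Injective (fun a : F => a * θ a) := by
    intro x y hxy
    by_cases hx : x = 0
    · subst hx
      have h1 : y * θ y = 0 := by simpa using hxy.symm
      rcases mul_eq_zero.1 h1 with h2 | h2
      · exact h2.symm
      · exact ((map_eq_zero θ).1 h2).symm
    · by_cases hy : y = 0
      · subst hy
        have h1 : x * θ x = 0 := by simpa using hxy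
        rcases mul_eq_zero.1 h1 with h2 | h2
        · exact h2
        · exact (map_eq_zero θ).1 h2
      · have h0 : x * θ x = y * θ y := hxy
        have hz : (x / y) * θ (x / y) = 1 := by
          rw [map_div₀, div_mul_div_comm, h0, div_self]
          exact mul_ne_zero hy ((map_ne_zero θ).2 hy)
        set z := x / y with hzdef
        -- `θ z = z⁻¹`, so `z² = θ (θ z) = (θ z)⁻¹ = z`
        have hz0 : z ≠ 0 := div_ne_zero hx hy
        have h1 : θ z = z⁻¹ := eq_inv_of_mul_eq_one_right hz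
        have h2 : z ^ 2 = z := by
          rw [← H.sq z, h1, map_inv₀, h1, inv_inv]
        have h3 : z = 1 := by
          have : z * z = z * 1 := by rw [← pow_two, h2, mul_one]
          exact mul_left_cancel₀ hz0 this
        exact (div_eq_one_iff_eq hy).1 (hzdef ▸ h3)
  exact Finite.surjective_of_injective hinj b

theorem exists_theta_ne [Finite F] {m : ℕ} (hm : 1 ≤ m) (hF : Nat.card F = 2 ^ (2 * m + 1)) (H : Good F θ e) :
    ∃ c : F, θ c ≠ c := by
  by_contra hcon
  push Not at hcon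
  have h1 : ∀ c : F, c = 0 ∨ c = 1 := by
    intro c
    have h2 : c ^ 2 = c := by rw [← H.sq c, hcon, hcon]
    have h3 : c * (c - 1) = 0 := by linear_combination h2
    rcases mul_eq_zero.1 h3 with h | h
    · exact Or.inl h
    · exact Or.inr (sub_eq_zero.1 h)
  have h4 : Nat.card F ≤ 2 := by
    have h5 : (Set.univ : Set F) ⊆ {0, 1} := fun c _ => by
      rcases h1 c with h | h <;> simp [h]
    have h6 := Set.ncard_le_ncard h5 (Set.toFinite _)
    rw [Set.ncard_univ] at h6
    exact h6.trans (Set.ncard_insert_le _ _ |>.trans (by simp))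
  rw [hF] at h4
  have : 2 ^ 3 ≤ 2 ^ (2 * m + 1) := Nat.pow_le_pow_right (by norm_num) (by omega)
  omega

theorem result (hreg : GoalReg.{u}) : GoalSz.{u} := by
  classical
  intro L _ hL
  obtain ⟨F, _, _, m, hm, hF, ⟨e⟩⟩ := hL
  have H := good hF
  have hcardU := H.card_unip
  rw [Nat.card_eq_fintype_card (α := F), hF] at hcardU
  have hp : IsPGroup 2 H.unip := IsPGroup.of_card (n := (2 * m + 1) * 2) (by rw [hcardU, ← pow_mul])
  have hcard := (Cfsg.Agent.S1163.result hm hF).1
  have hpow : 2 ^ (2 * m + 1) = 2 * 2 ^ (2 * m) := by rw [pow_succ, mul_comm]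
  have hF8 : 1 ≤ 2 ^ (2 * m) := Nat.one_le_two_pow
  have hidx : ¬ 2 ∣ H.unip.index := by
    have h1 := Subgroup.card_mul_index H.unip
    rw [hcard, hcardU, mul_assoc] at h1
    have h2 := Nat.eq_of_mul_eq_mul_left (by positivity) h1
    rw [h2, ← even_iff_two_dvd, Nat.not_even_iff_odd, hpow]
    apply Odd.mul
    · exact ⟨2 ^ (2 * m) - 1, by omega⟩
    · exact ⟨2 * (2 ^ (2 * m) * 2 ^ (2 * m)), by ring⟩
  -- elements of `L`
  obtain ⟨U, hU⟩ : ∃ U : F → F → L, ∀ a b, e (U a b) = H.u a b := ⟨fun a b => e.symm (H.u a b), by simp⟩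
  obtain ⟨D, hD⟩ : ∃ D : Fˣ → L, ∀ k, e (D k) = H.d k := ⟨fun k => e.symm (H.d k), by simp⟩
  have U_inj : ∀ {a b c d : F}, U a b = U c d → a = c ∧ b = d := by
    intro a b c d h
    have := congrArg e h
    rw [hU, hU] at this
    exact H.u_inj this
  have U_mul : ∀ a b c d : F, U a b * U c d = U (a + c) (b + d + a * theta hF c) := by
    intro a b c d
    apply e.injective
    rw [map_mul, hU, hU, hU, H.u_mul]
  have U_one : U 0 0 = 1 := by
    apply e.injective
    rw [hU, H.u_zero, map_one]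
  have D_conj : ∀ (k : Fˣ) (a b : F), D k * U a b * (D k)⁻¹ = U (a * k ^ 2 * (theta hF k)⁻¹) (b * theta hF k) := by
    intro k a b
    apply e.injective
    rw [map_mul, map_mul, map_inv, hU, hD, hU, d_conj]
  have D_mul : ∀ k l : Fˣ, D k * D l = D (k * l) := by
    intro k l
    apply e.injective
    rw [map_mul, hD, hD, hD, H.d_mul]
  have D_one : D 1 = 1 := by
    apply e.injective
    rw [hD, H.d_one, map_one]
  have D_inj : ∀ {k l : Fˣ}, D k = D l → k = l := by
    intro k l h
    have := congrArg e h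
    rw [hD, hD] at this
    exact H.d_inj this
  let Df : Fˣ →* L := { toFun := D, map_one' := D_one, map_mul' := fun k l => (D_mul k l).symm }
  have Df_apply : ∀ k, Df k = D k := fun _ => rfl
  -- the Sylow subgroup
  set R : Subgroup L := H.unip.comap e.toMonoidHom with hR
  have memR : ∀ {x : L}, x ∈ R ↔ ∃ a b : F, x = U a b := by
    intro x
    rw [hR, Subgroup.mem_comap]
    change e x ∈ H.unip ↔ _
    rw [H.mem_unip_iff]
    constructor
    · rintro ⟨a, b, h⟩; exact ⟨a, b, e.injective (by rw [h, hU])⟩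
    · rintro ⟨a, b, rfl⟩; exact ⟨a, b, hU a b⟩
  have hU_mem : ∀ a b, U a b ∈ R := fun a b => memR.2 ⟨a, b, rfl⟩
  have hRp : IsPGroup 2 R := hp.comap_of_injective _ e.injective
  have hRidx : ¬ 2 ∣ R.index := by
    rw [hR, Subgroup.index_comap_of_surjective _ e.surjective]
    exact hidx
  have : Finite L := Finite.of_equiv _ e.symm.toEquiv
  -- the normaliser
  have D_norm : ∀ k, D k ∈ normalizer (R : Set L) := by
    have h1 : ∀ (k : Fˣ) (x : L), x ∈ R → D k * x * (D k)⁻¹ ∈ R := by
      intro k x hx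
      obtain ⟨a, b, rfl⟩ := memR.1 hx
      rw [D_conj]
      exact hU_mem _ _
    intro k
    rw [Subgroup.mem_normalizer_iff]
    intro x
    refine ⟨h1 k x, fun hx => ?_⟩
    have h2 := h1 k⁻¹ _ hx
    have h3 : (D k)⁻¹ = D k⁻¹ := by
      rw [inv_eq_iff_mul_eq_one, D_mul, mul_inv_cancel, D_one]
    have h4 : D k⁻¹ * (D k * x * (D k)⁻¹) * (D k⁻¹)⁻¹ = x := by
      rw [← h3]; group
    rwa [h4] at h2
  have hN : ∀ g ∈ normalizer (R : Set L), ∃ (a b : F) (k : Fˣ), g = U a b * D k := by
    intro g hg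
    have h1 : e g ∈ normalizer (H.unip : Set ↥(Cfsg.Lie.Sz F (2 ^ (m + 1)))) := by
      rw [Subgroup.mem_normalizer_iff] at hg ⊢
      intro x
      obtain ⟨y, rfl⟩ := e.surjective x
      have := hg y
      rw [hR, Subgroup.mem_comap, Subgroup.mem_comap] at this
      simpa using this
    obtain ⟨a, b, k, h2⟩ := (H.mem_borel_iff' _).1 (Schreier.Sz.normalizer_unip H _ h1)
    exact ⟨a, b, k, e.injective (by rw [h2, map_mul, hU, hD])⟩
  set A : Subgroup L := Df.range with hA
  have hAN : A ≤ normalizer (R : Set L) := by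
    rintro _ ⟨k, rfl⟩
    exact D_norm k
  have hcardA : ¬ 2 ∣ Nat.card A := by
    have h1 : Nat.card A = Nat.card Fˣ :=
      (Nat.card_congr (MonoidHom.ofInjective (f := Df) (fun k l h => D_inj h)).toEquiv).symm
    rw [h1, Nat.card_units, Nat.card_eq_fintype_card, hF, hpow]
    omega
  have hsup : R ⊔ A = normalizer (R : Set L) := by
    refine le_antisymm (sup_le Subgroup.le_normalizer hAN) fun g hg => ?_
    obtain ⟨a, b, k, rfl⟩ := hN g hg
    exact mul_mem (Subgroup.mem_sup_left (hU_mem a b)) (Subgroup.mem_sup_right ⟨k, rfl⟩)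
  have hRcoe : ((hRp.toSylow hRidx : Sylow 2 L) : Subgroup L) = R := IsPGroup.toSylow_coe hRp hRidx
  refine ⟨hRp.toSylow hRidx, A, hAN, hcardA, hsup, ?_⟩
  change Good 2 ↥R (autOf R A)
  have haut : ∀ a ∈ autOf R A, ∃ k, ∀ x : R, ((a x : R) : L) = D k * x * (D k)⁻¹ := by
    rintro a ⟨g, hg, rfl⟩
    obtain ⟨k, hk⟩ := Subgroup.mem_subgroupOf.1 hg
    refine ⟨k, fun x => ?_⟩
    change (g : L) * x * (g : L)⁻¹ = _
    rw [← hk, Df_apply]
  have haut' : ∀ k, ∃ a ∈ autOf R A, ∀ x : R, ((a x : R) : L) = D k * x * (D k)⁻¹ := by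
    intro k
    refine ⟨R.normalizerMonoidHom ⟨D k, D_norm k⟩, ⟨⟨D k, D_norm k⟩, ?_, rfl⟩, fun x => rfl⟩
    exact Subgroup.mem_subgroupOf.2 ⟨k, rfl⟩
  have hcenter : ∀ z : R, z ∈ center R → ∃ b : F, (z : L) = U 0 b := by
    intro z hz
    obtain ⟨a, b, hab⟩ := memR.1 z.2
    have h1 : ∀ c : F, a * theta hF c = c * theta hF a := by
      intro c
      have h2 := Subgroup.mem_center_iff.1 hz ⟨U c 0, hU_mem c 0⟩
      have h3 := congrArg Subtype.val h2
      change U c 0 * (z : L) = (z : L) * U c 0 at h3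
      rw [hab, U_mul, U_mul] at h3
      have h4 := (U_inj h3).2
      have h5 : 0 + b + c * theta hF a = b + 0 + a * theta hF c := h4
      linear_combination -h5
    by_cases ha : a = 0
    · exact ⟨b, by rw [hab, ha]⟩
    · exfalso
      obtain ⟨c, hc⟩ := exists_theta_ne hm (by rw [Nat.card_eq_fintype_card, hF]) H
      have h2 : theta hF a = a := by
        have := h1 1
        rw [map_one, mul_one, one_mul] at this
        exact this.symm
      have h3 := h1 c
      rw [h2, mul_comm c] at h3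
      exact hc (mul_left_cancel₀ ha h3)
  have hfrat : ∀ b : F, (⟨U 0 b, hU_mem 0 b⟩ : R) ∈ frattini R := by
    intro b
    obtain ⟨a, ha⟩ := exists_mul_theta H b
    have h1 := Cfsg.Agent.Lib.FrattiniPGroup.pow_mem_frattini hRp (⟨U a 0, hU_mem a 0⟩ : R)
    have h2 : (⟨U a 0, hU_mem a 0⟩ : R) ^ 2 = ⟨U 0 b, hU_mem 0 b⟩ := by
      apply Subtype.ext
      change (U a 0) ^ 2 = U 0 b
      rw [pow_two, U_mul, H.add_self, ha]
      simp
    rwa [h2] at h1
  refine hreg 2 ↥R hRp (autOf R A) ?_ ?_ ?_ ?_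
  · intro a ha b hb
    obtain ⟨k, hk⟩ := haut a ha
    obtain ⟨l, hl⟩ := haut b hb
    ext x
    rw [MulAut.mul_apply, MulAut.mul_apply, hk, hl, hl, hk]
    have h1 : D k * D l = D l * D k := by rw [D_mul, D_mul, mul_comm]
    calc D k * (D l * x * (D l)⁻¹) * (D k)⁻¹ = (D k * D l) * x * (D k * D l)⁻¹ := by group
      _ = (D l * D k) * x * (D l * D k)⁻¹ := by rw [h1]
      _ = _ := by group
  · intro z hz hz1 w hw hw1
    obtain ⟨b, hb⟩ := hcenter z hz
    obtain ⟨c, hc⟩ := hcenter w hw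
    have hb0 : b ≠ 0 := by
      rintro rfl
      exact hz1 (Subtype.ext (by rw [hb, U_one]; rfl))
    have hc0 : c ≠ 0 := by
      rintro rfl
      exact hw1 (Subtype.ext (by rw [hc, U_one]; rfl))
    obtain ⟨t, ht⟩ := Schreier.Sz.theta_surjective (theta hF) (c / b)
    have ht0 : t ≠ 0 := by
      rintro rfl
      rw [map_zero] at ht
      exact div_ne_zero hc0 hb0 ht.symm
    obtain ⟨a, ha, hax⟩ := haut' (Units.mk0 t ht0)
    refine ⟨a, ha, Subtype.ext ?_⟩
    rw [hax, hb, hc, D_conj]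
    congr 1
    · simp
    · rw [Units.val_mk0, ht, mul_div_cancel₀ _ hb0]
  · intro z hz hz1 a ha haz
    obtain ⟨b, hb⟩ := hcenter z hz
    have hb0 : b ≠ 0 := by
      rintro rfl
      exact hz1 (Subtype.ext (by rw [hb, U_one]; rfl))
    obtain ⟨k, hk⟩ := haut a ha
    have h1 := congrArg Subtype.val haz
    rw [hk, hb, D_conj] at h1
    have h2 := (U_inj h1).2
    have h3 : theta hF (k : F) = 1 := by
      have : b * theta hF (k : F) = b * 1 := by rw [h2, mul_one]
      exact mul_left_cancel₀ hb0 this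
    have h4 : k = 1 := by
      apply Units.ext
      apply (theta hF).injective
      rw [h3, Units.val_one, map_one]
    ext x
    rw [hk, h4, D_one]
    simp
  · intro x hx y hy
    obtain ⟨a, b, hab⟩ := memR.1 x.2
    obtain ⟨c, d, hcd⟩ := memR.1 y.2
    have ha0 : a ≠ 0 := by
      rintro rfl
      exact hx (by convert hfrat b)
    have hc0 : c ≠ 0 := by
      rintro rfl
      exact hy (by convert hfrat d)
    obtain ⟨k, hk⟩ := Schreier.Sz.exists_sq_div H (div_ne_zero hc0 ha0)
    obtain ⟨f, hf, hfx⟩ := haut' k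
    refine ⟨f, hf, ?_⟩
    have h1 : f x = ⟨U c (b * theta hF k), hU_mem _ _⟩ := by
      apply Subtype.ext
      rw [hfx, hab, D_conj]
      change U _ _ = U _ _
      congr 1
      rw [mul_assoc, hk, mul_div_cancel₀ _ ha0]
    have h2 : y⁻¹ = ⟨U c (d + c * theta hF c), hU_mem _ _⟩ := by
      rw [inv_eq_iff_mul_eq_one]
      apply Subtype.ext
      change (y : L) * U c _ = 1
      rw [hcd, U_mul, ← U_one]
      congr 1
      · exact H.add_self c
      · linear_combination (d + c * theta hF c) * H.two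
    rw [h1, h2]
    have h3 : (⟨U c (b * theta hF k), hU_mem _ _⟩ : R) * ⟨U c (d + c * theta hF c), hU_mem _ _⟩
        = ⟨U 0 (b * theta hF k + (d + c * theta hF c) + c * theta hF c), hU_mem _ _⟩ := by
      apply Subtype.ext
      change U c _ * U c _ = U 0 _
      rw [U_mul, H.add_self]
    rw [h3]
    exact hfrat _

end Cfsg.Agent.H188.TI.Sz
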